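import Mathlib
import Groth.Agent.Lib.QuadSeries.Basic

/-!
# Kaehler differentials of power series rings over perfect fields of positive characteristic

`Ω[k⟦X⟧⁄k]` is free on the differentials of the variables, and a principal hypersurface
`k⟦X⟧ ⧸ (f)` has the conormal presentation by the partial derivatives of `f`.
-/

universe u

open MvPowerSeries

noncomputable section

namespace Groth.Agent.Lib.PSKaehler16

variable {k : Type u} [Field k] {σ : Type*} [Fintype σ]

/-- All exponents divisible by `p`. -/
def PDiv (p : ℕ) (t : σ →₀ ℕ) : Prop := ∀ i, p ∣ t i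

omit [Fintype σ] in
lemma isPow_of_pDiv {p : ℕ} [Fact p.Prime] [CharP k p] [PerfectField k] {h : MvPowerSeries σ k}
    (hh : ∀ t, ¬ PDiv p t → coeff t h = 0) : ∃ h', h = h' ^ p := by
  have hp : p ≠ 0 := (Fact.out : p.Prime).ne_zero
  haveI : ExpChar k p := ExpChar.prime Fact.out
  haveI : PerfectRing k p := PerfectField.toPerfectRing p
  let h' : MvPowerSeries σ k := fun t => (frobeniusEquiv k p).symm (coeff (p • t) h)
  refine ⟨h', ?_⟩
  rw [← map_frobenius_expand p hp]
  ext t
  rw [coeff_map]
  by_cases ht : PDiv p t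
  · obtain ⟨s, rfl⟩ : ∃ s : σ →₀ ℕ, t = p • s := by
      refine ⟨t.mapRange (· / p) (Nat.zero_div p), Finsupp.ext fun i => ?_⟩
      simp [Nat.mul_div_cancel' (ht i)]
    rw [coeff_expand_smul]
    exact ((frobeniusEquiv k p).apply_symm_apply _).symm
  · rw [hh t ht]
    simp only [PDiv, not_forall] at ht
    obtain ⟨i, hi⟩ := ht
    rw [coeff_expand_of_not_dvd p hp _ hi, map_zero]

variable (k σ) in
/-- The differentials of the variables span. -/
theorem span_dX_eq_top (p : ℕ) [Fact p.Prime] [CharP k p] [PerfectField k] :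
    Submodule.span (MvPowerSeries σ k) (Set.range fun i => KaehlerDifferential.D k (MvPowerSeries σ k) (X i)) = ⊤ := by
  classical
  set N := Submodule.span (MvPowerSeries σ k) (Set.range fun i => KaehlerDifferential.D k (MvPowerSeries σ k) (X i))
  have hD : ∀ h : MvPowerSeries σ k, (∀ t, ¬ PDiv p t → coeff t h = 0) →
      KaehlerDifferential.D k (MvPowerSeries σ k) h = 0 := by
    intro h hh
    obtain ⟨h', rfl⟩ := isPow_of_pDiv (p := p) hh
    rw [Derivation.leibniz_pow, ← Nat.cast_smul_eq_nsmul (MvPowerSeries σ k)]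
    haveI : CharP (MvPowerSeries σ k) p :=
      charP_of_injective_algebraMap (algebraMap k (MvPowerSeries σ k)).injective p
    rw [CharP.cast_eq_zero, zero_smul]
  let G : Finset (MvPowerSeries σ k) := (Finset.univ : Finset (σ → Fin p)).image fun e =>
    monomial (Finsupp.equivFunOnFinite.symm fun i => (e i : ℕ)) (1 : k)
  have hG' : ∀ y : MvPowerSeries σ k, KaehlerDifferential.D k (MvPowerSeries σ k) y ∈
      Submodule.span (MvPowerSeries σ k) (Set.range fun g : G => KaehlerDifferential.D k (MvPowerSeries σ k) (g : MvPowerSeries σ k)) := by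
    intro y
    have hp : 0 < p := (Fact.out : p.Prime).pos
    let h : (σ → Fin p) → MvPowerSeries σ k := fun e t =>
      if PDiv p t then coeff (t + Finsupp.equivFunOnFinite.symm fun i => (e i : ℕ)) y else 0
    have hh : ∀ e t, coeff t (h e) =
        if PDiv p t then coeff (t + Finsupp.equivFunOnFinite.symm fun i => (e i : ℕ)) y else 0 := fun _ _ => rfl
    have hy : y = ∑ e : σ → Fin p, h e * monomial (Finsupp.equivFunOnFinite.symm fun i => (e i : ℕ)) (1 : k) := by
      refine MvPowerSeries.ext fun t => ?_
      rw [map_sum, Finset.sum_eq_single (fun i => (⟨t i % p, Nat.mod_lt _ hp⟩ : Fin p))]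
      · have hle : (Finsupp.equivFunOnFinite.symm fun i => t i % p : σ →₀ ℕ) ≤ t := fun i => by
          simp only [Finsupp.coe_equivFunOnFinite_symm]; exact Nat.mod_le _ _
        have hdiv : PDiv p (t - Finsupp.equivFunOnFinite.symm fun i => t i % p) := fun i => by
          simp only [Finsupp.coe_tsub, Pi.sub_apply, Finsupp.coe_equivFunOnFinite_symm]
          exact Nat.dvd_sub_mod _
        simp only [coeff_mul_monomial, hh, if_pos hle, if_pos hdiv, tsub_add_cancel_of_le hle, mul_one]
      · intro e _ he
        rw [coeff_mul_monomial]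
        split_ifs with hle
        · rw [hh, if_neg, zero_mul]
          intro hd
          refine he (funext fun i => Fin.ext ?_)
          have h1 := hd i
          have h2 := hle i
          simp only [Finsupp.coe_tsub, Pi.sub_apply, Finsupp.coe_equivFunOnFinite_symm] at h1 h2
          show (e i : ℕ) = t i % p
          obtain ⟨c, hc⟩ := h1
          rw [show t i = (e i : ℕ) + p * c by omega, Nat.add_mul_mod_self_left, Nat.mod_eq_of_lt (e i).2]
        · rfl
      · intro hn; exact absurd (Finset.mem_univ _) hn
    rw [hy, map_sum]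
    refine Submodule.sum_mem _ fun e _ => ?_
    rw [Derivation.leibniz, hD (h e) fun t ht => by rw [hh, if_neg ht], smul_zero, add_zero]
    exact Submodule.smul_mem _ _ (Submodule.subset_span ⟨⟨_, Finset.mem_image_of_mem _ (Finset.mem_univ e)⟩, rfl⟩)
  haveI hfin : Module.Finite (MvPowerSeries σ k) (Ω[MvPowerSeries σ k⁄k]) := by
    refine Module.finite_def.2 ⟨Finset.univ.image fun g : G => KaehlerDifferential.D k (MvPowerSeries σ k) (g : MvPowerSeries σ k),
      eq_top_iff.2 ?_⟩
    rw [← KaehlerDifferential.span_range_derivation, Submodule.span_le, Finset.coe_image, Finset.coe_univ,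
      Set.image_univ]
    rintro _ ⟨y, rfl⟩
    exact hG' y
  -- Nakayama
  refine eq_top_iff.2 (Submodule.le_of_le_smul_of_le_jacobson_bot (I := IsLocalRing.maximalIdeal (MvPowerSeries σ k))
    Module.Finite.fg_top (IsLocalRing.maximalIdeal_le_jacobson _) ?_)
  refine (KaehlerDifferential.span_range_derivation k (MvPowerSeries σ k)).symm.le.trans
    (Submodule.span_le.2 ?_)
  rintro _ ⟨y, rfl⟩
  have key : ∀ z ∈ Ideal.span (Set.range (X : σ → MvPowerSeries σ k)),
      KaehlerDifferential.D k (MvPowerSeries σ k) z ∈ N ⊔ IsLocalRing.maximalIdeal (MvPowerSeries σ k) • ⊤ := by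
    intro z hz
    induction hz using Submodule.span_induction with
    | mem x hx => obtain ⟨i, rfl⟩ := hx; exact Submodule.mem_sup_left (Submodule.subset_span ⟨i, rfl⟩)
    | zero => rw [map_zero]; exact Submodule.zero_mem _
    | add a b _ _ ha hb => rw [map_add]; exact Submodule.add_mem _ ha hb
    | smul a x hx ha =>
      rw [smul_eq_mul, Derivation.leibniz]
      refine Submodule.add_mem _ (Submodule.smul_mem _ _ ha) (Submodule.mem_sup_right ?_)
      exact Submodule.smul_mem_smul ((GrothLib.QuadSeries.maximalIdeal_eq (σ := σ) (k := k)) ▸ hx) trivial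
  have hc : y - C (constantCoeff y) ∈ Ideal.span (Set.range (X : σ → MvPowerSeries σ k)) := by
    rw [← GrothLib.QuadSeries.maximalIdeal_eq, GrothLib.QuadSeries.mem_max, map_sub, constantCoeff_C, sub_self]
  have := key _ hc
  rwa [map_sub, show C (constantCoeff y) = algebraMap k (MvPowerSeries σ k) (constantCoeff y) from rfl,
    Derivation.map_algebraMap, sub_zero] at this

variable (k σ) in
/-- The partial derivatives, assembled into a linear map on differentials. -/
def gradMap : Ω[MvPowerSeries σ k⁄k] →ₗ[MvPowerSeries σ k] (σ → MvPowerSeries σ k) :=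
  LinearMap.pi fun i => (MvPowerSeries.pderiv k i).liftKaehlerDifferential

lemma gradMap_D (g : MvPowerSeries σ k) (i : σ) :
    gradMap k σ (KaehlerDifferential.D k (MvPowerSeries σ k) g) i = MvPowerSeries.pderiv k i g := by
  simp [gradMap]

/-- Every differential is the combination of the `dXᵢ` by partial derivatives. -/
theorem D_eq_sum (p : ℕ) [Fact p.Prime] [CharP k p] [PerfectField k] (g : MvPowerSeries σ k) :
    KaehlerDifferential.D k (MvPowerSeries σ k) g =
      ∑ i, MvPowerSeries.pderiv k i g • KaehlerDifferential.D k (MvPowerSeries σ k) (X i) := by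
  classical
  have h := span_dX_eq_top k σ p
  have hg : KaehlerDifferential.D k (MvPowerSeries σ k) g ∈ (⊤ : Submodule (MvPowerSeries σ k) (Ω[MvPowerSeries σ k⁄k])) := trivial
  rw [← h, Submodule.mem_span_range_iff_exists_fun] at hg
  obtain ⟨c, hc⟩ := hg
  rw [← hc]
  refine Finset.sum_congr rfl fun j _ => ?_
  congr 1
  have := congrArg (fun w => gradMap k σ w j) hc
  simpa [gradMap_D, MvPowerSeries.pderiv_X, Pi.single_apply] using this

/-- Every derivation is the combination of the partial derivatives. -/
theorem derivation_eq_sum (p : ℕ) [Fact p.Prime] [CharP k p] [PerfectField k] {M : Type*} [AddCommGroup M] [Module (MvPowerSeries σ k) M] [Module k M]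
    [IsScalarTower k (MvPowerSeries σ k) M] (E : Derivation k (MvPowerSeries σ k) M) (g : MvPowerSeries σ k) :
    E g = ∑ i, MvPowerSeries.pderiv k i g • E (X i) := by
  have := congrArg E.liftKaehlerDifferential (D_eq_sum p g)
  simpa using this

theorem span_values_eq (p : ℕ) [Fact p.Prime] [CharP k p] [PerfectField k] (f : MvPowerSeries σ k) :
    Ideal.span {g | ∃ E : Derivation k (MvPowerSeries σ k) (MvPowerSeries σ k), g = E f} =
      Ideal.span (Set.range fun i => MvPowerSeries.pderiv k i f) := by
  refine le_antisymm (Ideal.span_le.2 ?_) (Ideal.span_le.2 ?_)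
  · rintro _ ⟨E, rfl⟩
    rw [SetLike.mem_coe, derivation_eq_sum p E f]
    exact Ideal.sum_mem _ fun i _ => by
      rw [smul_eq_mul]; exact Ideal.mul_mem_right _ _ (Ideal.subset_span ⟨i, rfl⟩)
  · rintro _ ⟨i, rfl⟩
    exact Ideal.subset_span ⟨_, rfl⟩

end Groth.Agent.Lib.PSKaehler16
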